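import Groth.Agent.Lib.ArSurf29.NodeReduced
import Groth.Agent.Lib.CurveLocus.Basic

/-!
# At-worst-nodal schemes over a field are reduced
-/

set_option autoImplicit false
set_option backward.isDefEq.respectTransparency false

universe u

open CategoryTheory Limits AlgebraicGeometry

namespace GrothLib.NormFlat11

theorem isReduced_of_atWorstNodal {k : Type u} [Field k] (X : Scheme.{u}) [X.Over (Spec (CommRingCat.of k))]
    [LocallyOfFiniteType (X ↘ Spec (CommRingCat.of k))] (h : Curv2.AtWorstNodal k X) : IsReduced X := by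
  refine GrothLib.ArSurf29.isReduced_of_closedPoints (X ↘ Spec (CommRingCat.of k)) fun x hx => ?_
  rcases h x hx with ⟨W, hxW, hW⟩ | ⟨-, xb, rfl, hodp⟩
  · haveI := hW
    haveI : IsReduced W.toScheme := GrothLib.RedSmooth.isReduced_of_smooth (W.ι ≫ X ↘ Spec (CommRingCat.of k))
    exact isReduced_of_injective (W.stalkIso ⟨x, hxW⟩).inv.hom
      (ConcreteCategory.bijective_of_isIso (W.stalkIso ⟨x, hxW⟩).inv).1
  · let K := AlgebraicClosure k
    haveI : LocallyOfFiniteType (Curv2.bcSnd k X K) :=
      MorphismProperty.pullback_snd (P := @LocallyOfFiniteType) (X ↘ Spec (CommRingCat.of k))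
        (Spec.map (CommRingCat.ofHom (algebraMap k K))) inferInstance
    haveI : IsLocallyNoetherian (Curv2.bc k X K) := LocallyOfFiniteType.isLocallyNoetherian (Curv2.bcSnd k X K)
    haveI : _root_.IsReduced ((Curv2.bc k X K).presheaf.stalk xb) :=
      @GrothLib.ArSurf29.isReduced_of_isOrdDoublePt K _ _ _ (_) _ _ hodp
    haveI : Flat (Spec.map (CommRingCat.ofHom (algebraMap k K))) := GrothLib.CurveLocus.flat_to_spec_field _
    haveI : Flat (Curv2.bcFst k X K) := MorphismProperty.pullback_fst _ _ inferInstance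
    algebraize [((Curv2.bcFst k X K).stalkMap xb).hom]
    have : Module.FaithfullyFlat (X.presheaf.stalk (Curv2.bcFst k X K xb)) ((Curv2.bc k X K).presheaf.stalk xb) :=
      @Module.FaithfullyFlat.of_flat_of_isLocalHom _ _ _ _ _ _ _
        (Flat.stalkMap (Curv2.bcFst k X K) xb) ((Curv2.bcFst k X K).toLRSHom.prop xb)
    exact isReduced_of_injective ((Curv2.bcFst k X K).stalkMap xb).hom ‹RingHom.FaithfullyFlat _›.injective

theorem isReduced_fiber_of_isNodalFamily {X S : Scheme.{u}} {f : X ⟶ S} (hf : Curv2.IsNodalFamily f) (s : S) :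
    IsReduced (f.fiber s) := by
  haveI := hf.2.1
  letI : (f.fiber s).Over (Spec (CommRingCat.of (S.residueField s))) := ⟨f.fiberToSpecResidueField s⟩
  haveI : LocallyOfFiniteType ((f.fiber s) ↘ Spec (CommRingCat.of (S.residueField s))) :=
    (MorphismProperty.pullback_snd (P := @LocallyOfFiniteType) f (S.fromSpecResidueField s) inferInstance :)
  exact isReduced_of_atWorstNodal (f.fiber s) (hf.2.2 s).2

end GrothLib.NormFlat11
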