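import Groth.Agent.Lib.NormalSerre.Serre
import Groth.Agent.Lib.CMMor6.Algebra
import Groth.Agent.Lib.LocProp.SmoothRegularLocal

/-!
# Normality of flat algebras with reduced fibres over normal rings
-/

set_option autoImplicit false
set_option backward.isDefEq.respectTransparency false

universe u

open IsLocalRing RingTheory.Sequence

namespace GrothLib.NormFlat11

theorem isField_of_isReduced_of_dim_le_zero (F : Type u) [CommRing F] [IsLocalRing F] [IsReduced F]
    (h : ringKrullDim F ≤ 0) : IsField F := by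
  haveI : Ring.KrullDimLE 0 F := Ring.krullDimLE_iff.2 h
  rw [isField_iff_maximalIdeal_eq, eq_bot_iff]
  intro x hx
  refine (IsReduced.eq_zero x ?_ : x = 0)
  rw [← mem_nilradical, nilradical_eq_sInf, Ideal.mem_sInf]
  intro P hP
  haveI : P.IsPrime := hP
  haveI : P.IsMaximal := Ideal.isMaximal_of_isPrime P
  exact (eq_maximalIdeal ‹P.IsMaximal›).symm ▸ hx

theorem exists_regular_of_isReduced (F : Type u) [CommRing F] [IsLocalRing F] [IsNoetherianRing F] [IsReduced F]
    (h : ¬ ringKrullDim F ≤ 0) : ∃ x ∈ maximalIdeal F, IsSMulRegular F x := by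
  have hfin : (minimalPrimes F).Finite := minimalPrimes.finite_of_isNoetherianRing F
  have hne : ¬ (maximalIdeal F : Set F) ⊆ ⋃ P ∈ hfin.toFinset, (P : Set F) := by
    intro hsub
    obtain ⟨P, hP, hle⟩ := (Ideal.subset_union_prime (maximalIdeal F) (maximalIdeal F) fun P hP _ _ =>
      (hfin.mem_toFinset.1 hP).1.1).1 hsub
    have hP' := hfin.mem_toFinset.1 hP
    haveI hPp : P.IsPrime := hP'.1.1
    have e : P = maximalIdeal F := le_antisymm (le_maximalIdeal hPp.ne_top) hle
    refine h ?_
    rw [← maximalIdeal_height_eq_ringKrullDim]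
    have e0 : (maximalIdeal F).height = 0 := e ▸ Ideal.height_eq_zero_iff.2 hP'
    rw [e0]
    exact le_rfl
  obtain ⟨x, hx, hxn⟩ := Set.not_subset.1 hne
  refine ⟨x, hx, fun a b hab => sub_eq_zero.1 ?_⟩
  have h0 : x * (a - b) = 0 := by rw [mul_sub]; exact sub_eq_zero.2 hab
  refine (IsReduced.eq_zero _ ?_ : a - b = 0)
  rw [← mem_nilradical, nilradical_eq_sInf, Ideal.mem_sInf]
  intro P hP
  haveI : P.IsPrime := hP
  obtain ⟨Q, hQ, hQP⟩ := Ideal.exists_minimalPrimes_le (I := (⊥ : Ideal F)) (J := P) bot_le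
  haveI : Q.IsPrime := hQ.1.1
  have hxQ : x ∉ Q := fun hxQ => hxn (Set.mem_iUnion₂.2 ⟨Q, hfin.mem_toFinset.2 hQ, hxQ⟩)
  exact hQP ((Ideal.IsPrime.mem_or_mem ‹Q.IsPrime› (h0 ▸ Q.zero_mem)).resolve_left hxQ)

theorem one_le_depth {R : Type u} [CommRing R] [IsLocalRing R] [IsNoetherianRing R] {x : R}
    (hx : x ∈ maximalIdeal R) (hr : IsSMulRegular R x) : (1 : ℕ∞) ≤ LocCoh.depth R R := by
  refine (GrothLib.Depth.le_idealDepth_iff_exists _ ?_ 1).2
    ⟨[x], rfl, by simpa using hx, by rw [isWeaklyRegular_cons_iff]; exact ⟨hr, .nil _ _⟩⟩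
  rw [smul_eq_mul, Ideal.mul_top]
  exact (maximalIdeal.isMaximal R).ne_top

theorem exists_pair_of_two_le_depth {R : Type u} [CommRing R] [IsLocalRing R] [IsNoetherianRing R]
    (h : (2 : ℕ∞) ≤ LocCoh.depth R R) :
    ∃ x y : R, x ∈ maximalIdeal R ∧ y ∈ maximalIdeal R ∧ IsWeaklyRegular R [x, y] := by
  obtain ⟨rs, hlen, hmem, hreg⟩ := (GrothLib.Depth.le_idealDepth_iff_exists (maximalIdeal R)
    (by rw [smul_eq_mul, Ideal.mul_top]; exact (maximalIdeal.isMaximal R).ne_top) 2).1 h
  obtain ⟨x, y, rfl⟩ := List.length_eq_two.1 hlen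
  exact ⟨x, y, hmem x (by simp), hmem y (by simp), hreg⟩

/-- A flat local algebra over a normal local domain with reduced closed fibre is regular or has depth two. -/
theorem regular_or_pair (A B : Type u) [CommRing A] [CommRing B] [IsLocalRing A] [IsLocalRing B]
    [IsNoetherianRing A] [IsNoetherianRing B] [Algebra A B] [IsLocalHom (algebraMap A B)] [Module.Flat A B]
    [IsDomain A] [IsIntegrallyClosed A] (hA : ¬ IsField A)
    (hred : IsReduced (B ⧸ (maximalIdeal A).map (algebraMap A B))) :
    IsRegularLocalRing B ∨ ∃ x y : B, x ∈ maximalIdeal B ∧ y ∈ maximalIdeal B ∧ IsWeaklyRegular B [x, y] := by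
  have hle : (maximalIdeal A).map (algebraMap A B) ≤ maximalIdeal B := by
    rw [Ideal.map_le_iff_le_comap]
    exact (((local_hom_TFAE (algebraMap A B)).out 0 4 rfl rfl).1 inferInstance).ge
  let F := B ⧸ (maximalIdeal A).map (algebraMap A B)
  haveI := (Ideal.Quotient.nontrivial_iff (I := (maximalIdeal A).map (algebraMap A B))).2
    (ne_top_of_le_ne_top (maximalIdeal.isMaximal B).ne_top hle)
  haveI : IsLocalRing F := IsLocalRing.of_surjective' (Ideal.Quotient.mk _) Ideal.Quotient.mk_surjective
  haveI : IsReduced F := hred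
  have hA0 : maximalIdeal A ≠ ⊥ := fun e => hA ((isField_iff_maximalIdeal_eq).2 e)
  by_cases hh : 1 < (maximalIdeal A).height
  · obtain ⟨x, y, hx, hy, hxy⟩ := GrothLib.NormalSerre.exists_pair_of_isIntegrallyClosed hh
    refine Or.inr (exists_pair_of_two_le_depth ?_)
    rw [GrothLib.CMMor6.depth_eq_add (A := A) (B := B)]
    refine le_trans ?_ le_self_add
    exact (GrothLib.Depth.le_idealDepth_iff_exists (maximalIdeal A)
      (by rw [smul_eq_mul, Ideal.mul_top]; exact (maximalIdeal.isMaximal A).ne_top) 2).2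
      ⟨[x, y], rfl, List.forall_mem_cons.2 ⟨hx, List.forall_mem_singleton.2 hy⟩, hxy⟩
  · have hregA := GrothLib.NormalSerre.isRegularLocalRing_of_isIntegrallyClosed (not_lt.1 hh)
    by_cases hF : ringKrullDim F ≤ 0
    · refine Or.inl ((GrothLib.LocProp.isRegularLocalRing_iff_of_flat_of_map_maximalIdeal ?_).1 hregA)
      exact eq_maximalIdeal (Ideal.Quotient.maximal_of_isField _ (isField_of_isReduced_of_dim_le_zero F hF))
    · obtain ⟨a, ha, ha0⟩ := Submodule.exists_mem_ne_zero_of_ne_bot hA0
      obtain ⟨b, hb, hb0⟩ := exists_regular_of_isReduced F hF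
      refine Or.inr (exists_pair_of_two_le_depth ?_)
      rw [GrothLib.CMMor6.depth_eq_add (A := A) (B := B), show (2 : ℕ∞) = 1 + 1 by norm_num]
      exact add_le_add (one_le_depth ha (isRegular_iff_ne_zero.2 ha0).left.isSMulRegular) (one_le_depth hb hb0)

/-- Normality at all primes from "regular or depth two" at every prime. -/
theorem normal_of_regular_or_pair (R : Type u) [CommRing R] [IsNoetherianRing R]
    (h : ∀ (p : Ideal R) [p.IsPrime], IsRegularLocalRing (Localization.AtPrime p) ∨
      ∃ x y : Localization.AtPrime p, x ∈ maximalIdeal _ ∧ y ∈ maximalIdeal _ ∧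
        IsWeaklyRegular (Localization.AtPrime p) [x, y]) :
    ∀ (p : Ideal R) [p.IsPrime],
      IsDomain (Localization.AtPrime p) ∧ IsIntegrallyClosed (Localization.AtPrime p) := by
  suffices H : ∀ (n : ℕ) (p : Ideal R) [p.IsPrime], p.height < n →
      IsDomain (Localization.AtPrime p) ∧ IsIntegrallyClosed (Localization.AtPrime p) by
    intro p _
    obtain ⟨n, hn⟩ := ENat.ne_top_iff_exists.1 (Ideal.height_ne_top_of_isPrime (I := p))
    exact H (n + 1) p (by rw [← hn]; exact_mod_cast Nat.lt_succ_self n)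
  intro n
  induction n with
  | zero => intro p _ hp; simp at hp
  | succ n ih =>
    intro p _ hp
    rcases h p with hr | ⟨x, y, hx, hy, hxy⟩
    · exact ⟨GrothLib.CMFree.isDomain_of_isRegularLocalRing _,
        GrothLib.RegLoc.isIntegrallyClosed_of_isRegularLocalRing _⟩
    refine GrothLib.NormalSerre.isDomain_isIntegrallyClosed_of_pair x y hx hy hxy fun P _ hP => ?_
    let q := P.comap (algebraMap R (Localization.AtPrime p))
    have hqp : q < p := by
      refine lt_of_le_of_ne ?_ ?_
      · have := Ideal.comap_mono (f := algebraMap R (Localization.AtPrime p))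
          (le_maximalIdeal (Ideal.IsPrime.ne_top (inferInstance : P.IsPrime)))
        refine this.trans (le_of_eq ?_)
        exact IsLocalization.AtPrime.comap_maximalIdeal (Localization.AtPrime p) p
      · intro he
        apply hP
        rw [← IsLocalization.map_comap p.primeCompl _ P, ← Localization.AtPrime.map_eq_maximalIdeal]
        exact congrArg _ he
    have hq : q.height < n := by
      have h1 := Ideal.height_strict_mono_of_isPrime_of_isPrime hqp
      have h2 : p.height ≤ n := by
        rw [Nat.cast_succ] at hp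
        exact ENat.lt_add_one_iff (ENat.coe_ne_top n) |>.1 hp
      exact h1.trans_le h2
    obtain ⟨hd, hi⟩ := ih q hq
    have : IsLocalization.AtPrime (Localization.AtPrime P) q :=
      IsLocalization.isLocalization_isLocalization_atPrime_isLocalization p.primeCompl _ P
    let e : Localization.AtPrime q ≃+* Localization.AtPrime P :=
      (IsLocalization.algEquiv q.primeCompl _ _).toRingEquiv
    exact ⟨e.symm.toMulEquiv.isDomain, IsIntegrallyClosed.of_equiv e⟩

end GrothLib.NormFlat11
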