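import Groth.Agent.Lib.NodeFrob.PthClosed
import Groth.Agent.Lib.GeomRed2.Basic
import Mathlib.RingTheory.AdicCompletion.Completeness
import Mathlib.RingTheory.Ideal.MinimalPrime.Localization
import Mathlib.RingTheory.PowerSeries.Order

/-!
# Ordinary double points do not lie over regular points of curves
-/

set_option autoImplicit false
set_option linter.style.haveILetI false
set_option backward.isDefEq.respectTransparency false

universe u

open IsLocalRing
open scoped TensorProduct

noncomputable section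

namespace GrothLib.NormFlat11

open GrothLib.NodeFrob in
/-- An ordinary double point maps to the two branches with transversal coordinates. -/
theorem exists_branches {K : Type u} [Field K] {B : Type u} [CommRing B] [Algebra K B]
    [IsLocalRing B] [IsNoetherianRing B] (h : Curv2.IsOrdDoublePt K B) :
    ∃ (φ : Fin 2 → B →+* PowerSeries K) (b : Fin 2 → B),
      (∀ s, (φ s (b s)).order = 1) ∧ ∀ s t, s ≠ t → 2 ≤ (φ s (b t)).order := by
  classical
  obtain ⟨e, -⟩ := h
  let I : Ideal (MvPowerSeries (Fin 2) K) := Ideal.span {MvPowerSeries.X 0 * MvPowerSeries.X 1}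
  let ψ : Fin 2 → (AdicCompletion (maximalIdeal B) B →+* PowerSeries K) := fun s =>
    (Ideal.Quotient.lift I (axis s) fun f hf => axis_mem_span hf s).comp e.toRingHom
  let z : Fin 2 → AdicCompletion (maximalIdeal B) B := fun t =>
    e.symm (Ideal.Quotient.mk I (MvPowerSeries.X t))
  have hb : ∀ t, ∃ b : B, AdicCompletion.evalₐ (maximalIdeal B) 2 (z t) = Ideal.Quotient.mk _ b := fun t => by
    obtain ⟨b, hb⟩ := Ideal.Quotient.mk_surjective (AdicCompletion.evalₐ (maximalIdeal B) 2 (z t))
    exact ⟨b, hb.symm⟩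
  choose b hb using hb
  have hloc : ∀ s, ∀ a ∈ maximalIdeal B, PowerSeries.X ∣ ψ s (algebraMap B _ a) := by
    intro s a ha
    obtain ⟨f, hf⟩ := Ideal.Quotient.mk_surjective (e (algebraMap B _ a))
    have hψ : ψ s (algebraMap B _ a) = axis s f := by
      show Ideal.Quotient.lift I (axis s) (fun f hf => axis_mem_span hf s) (e (algebraMap B _ a)) = axis s f
      rw [← hf]
      rfl
    rw [hψ, PowerSeries.X_dvd_iff, ← PowerSeries.coeff_zero_eq_constantCoeff_apply, constantCoeff_axis,
      MvPowerSeries.coeff_zero_eq_constantCoeff_apply]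
    by_contra hne
    have hu : IsUnit f := MvPowerSeries.isUnit_iff_constantCoeff.2 (isUnit_iff_ne_zero.2 hne)
    have hu' : IsUnit (algebraMap B (AdicCompletion (maximalIdeal B) B) a) := by
      have h1 := (hu.map (Ideal.Quotient.mk I)).map e.symm
      rwa [hf, e.symm_apply_apply] at h1
    have h2 := hu'.map (AdicCompletion.evalOneₐ (maximalIdeal B))
    rw [AlgHom.commutes, Ideal.Quotient.algebraMap_eq, Ideal.Quotient.eq_zero_iff_mem.2 ha] at h2
    exact not_isUnit_zero h2
  have hsq : ∀ s, ∀ w, AdicCompletion.evalₐ (maximalIdeal B) 2 w = 0 → PowerSeries.X ^ 2 ∣ ψ s w := by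
    intro s w hw
    have hw' : w ∈ (AdicCompletion.eval (maximalIdeal B) B 2).ker := by
      rw [LinearMap.mem_ker, ← AdicCompletion.factor_evalₐ_eq_eval (maximalIdeal B) w (by simp), hw, map_zero]
    rw [← AdicCompletion.pow_smul_top_eq_ker_eval (maximalIdeal B).fg_of_isNoetherianRing] at hw'
    refine Submodule.smul_induction_on hw' (fun a ha x _ => ?_) fun x y hx hy => by
      rw [map_add]; exact dvd_add hx hy
    rw [Algebra.smul_def, map_mul]
    refine Dvd.dvd.mul_right ?_ _
    have hle : (maximalIdeal B ^ 2).map ((ψ s).comp (algebraMap B _)) ≤ Ideal.span {PowerSeries.X} ^ 2 := by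
      rw [Ideal.map_pow]
      exact Ideal.pow_right_mono (Ideal.map_le_iff_le_comap.2 fun c hc =>
        Ideal.mem_comap.2 (Ideal.mem_span_singleton.2 (hloc s c hc))) 2
    have := hle (Ideal.mem_map_of_mem _ ha)
    rwa [Ideal.span_singleton_pow, Ideal.mem_span_singleton] at this
  have hval : ∀ s t, ∀ i < 2, PowerSeries.coeff i (ψ s (algebraMap B _ (b t))) =
      if s = t ∧ i = 1 then 1 else 0 := by
    intro s t i hi
    have hd := hsq s (algebraMap B _ (b t) - z t) (by
      rw [map_sub, AlgHom.commutes, hb, Ideal.Quotient.algebraMap_eq, sub_self])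
    rw [map_sub, PowerSeries.X_pow_dvd_iff] at hd
    have h0 := hd i hi
    rw [map_sub, sub_eq_zero] at h0
    have hz : ψ s (z t) = axis s (MvPowerSeries.X t) := by
      show Ideal.Quotient.lift I (axis s) (fun f hf => axis_mem_span hf s) (e (e.symm (Ideal.Quotient.mk I (MvPowerSeries.X t)))) = _
      rw [e.apply_symm_apply]
      rfl
    rw [h0, hz, coeff_axis, MvPowerSeries.coeff_X]
    refine if_congr ⟨fun he => ?_, fun ⟨h1, h2⟩ => by rw [h1, h2]⟩ rfl rfl
    rcases Finsupp.single_eq_single_iff _ _ _ _ |>.1 he with ⟨h1, h2⟩ | ⟨h1, h2⟩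
    · exact ⟨h1, h2⟩
    · exact absurd h2 one_ne_zero
  refine ⟨fun s => (ψ s).comp (algebraMap B _), b, fun s => ?_, fun s t hst => ?_⟩
  · refine PowerSeries.order_eq_nat.2 ⟨?_, fun i hi => ?_⟩
    · rw [RingHom.comp_apply, hval s s 1 (by norm_num), if_pos ⟨rfl, rfl⟩]
      exact one_ne_zero
    · rw [RingHom.comp_apply, hval s s i (by omega), if_neg (fun h => by omega)]
  · refine PowerSeries.nat_le_order _ 2 fun i hi => ?_
    rw [RingHom.comp_apply, hval s t i hi, if_neg (fun h => hst h.1)]

/-- A local ring, with principal maximal ideal, mapping locally to a ring with two branches having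
transversal coordinates cannot contain powers of all elements up to units. -/
theorem false_of_branches {A B : Type u} [CommRing A] [CommRing B] [IsLocalRing A] [IsLocalRing B]
    [IsNoetherianRing B] {K : Type u} [Field K] (j : A →+* B) [IsLocalHom j] (π : A)
    (hπ : maximalIdeal A = Ideal.span {π})
    (hpow : ∀ b : B, ∃ (q : ℕ) (g : Bˣ) (a : A), q ≠ 0 ∧ j a = (b * g) ^ q)
    (φ : Fin 2 → B →+* PowerSeries K) (b : Fin 2 → B)
    (h1 : ∀ s, (φ s (b s)).order = 1) (h2 : ∀ s t, s ≠ t → 2 ≤ (φ s (b t)).order) : False := by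
  classical
  have hord : ∀ s, ∀ u : Bˣ, (φ s u).order = 0 := fun s u => by
    rw [PowerSeries.order_eq_nat (n := 0) |>.2]
    · rfl
    · refine ⟨?_, fun i hi => absurd hi (Nat.not_lt_zero i)⟩
      rw [PowerSeries.coeff_zero_eq_constantCoeff_apply]
      exact ((u.isUnit.map (φ s)).map (PowerSeries.constantCoeff (R := K))).ne_zero
  -- nonzero images have normal form `π ^ n * unit`
  have hform : ∀ a : A, j a ≠ 0 → ∃ n : ℕ, ∀ s, (φ s (j a)).order = n • (φ s (j π)).order := by
    intro a ha
    have hex : ∃ n, ¬ π ^ n ∣ a := by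
      by_contra hall
      push Not at hall
      refine ha ((Submodule.mem_bot B).1 ?_)
      rw [← Ideal.iInf_pow_eq_bot_of_isLocalRing (maximalIdeal B) (maximalIdeal.isMaximal B).ne_top]
      refine Submodule.mem_iInf _ |>.2 fun n => ?_
      obtain ⟨c, rfl⟩ := hall n
      rw [map_mul, map_pow]
      refine Ideal.mul_mem_right _ _ (Ideal.pow_mem_pow ?_ n)
      exact map_nonunit j π (hπ ▸ Ideal.mem_span_singleton_self π :)
    obtain ⟨n, hn⟩ : ∃ n, Nat.find hex = n + 1 := Nat.exists_eq_succ_of_ne_zero fun h => by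
      have := Nat.find_spec hex
      rw [h, pow_zero] at this
      exact this (one_dvd a)
    have hdvd : π ^ n ∣ a := not_not.1 (Nat.find_min hex (by omega))
    obtain ⟨c, rfl⟩ := hdvd
    have hc : IsUnit c := by
      by_contra hcu
      have hc' : π ∣ c := Ideal.mem_span_singleton.1 (hπ ▸ (hcu : c ∈ maximalIdeal A))
      have := Nat.find_spec hex
      rw [hn, pow_succ] at this
      exact this (mul_dvd_mul_left _ hc')
    refine ⟨n, fun s => ?_⟩
    rw [map_mul, map_pow, map_mul, map_pow, PowerSeries.order_mul, PowerSeries.order_pow]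
    have := hord s (hc.map j).unit
    rw [IsUnit.unit_spec] at this
    rw [this, add_zero]
  have key : ∀ t : Fin 2, ∃ n q : ℕ, q ≠ 0 ∧ n • (φ t (j π)).order = q ∧
      ∀ s, s ≠ t → (2 * q : ℕ) ≤ n • (φ s (j π)).order := by
    intro t
    obtain ⟨q, g, a, hq, ha⟩ := hpow (b t)
    have ht : (φ t (j a)).order = q := by
      rw [ha, map_pow, map_mul, PowerSeries.order_pow, PowerSeries.order_mul, h1, hord, add_zero, nsmul_one]
    obtain ⟨n, hn⟩ := hform a fun h0 => by
      rw [h0, map_zero, PowerSeries.order_zero] at ht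
      exact ENat.top_ne_natCast q ht
    refine ⟨n, q, hq, (hn t).symm.trans ht, fun s hst => ?_⟩
    rw [← hn s, ha, map_pow, map_mul, PowerSeries.order_pow, PowerSeries.order_mul, hord, add_zero,
      nsmul_eq_mul, Nat.cast_mul, mul_comm]
    gcongr
    exact h2 s t hst
  obtain ⟨n, q, hq, hn0, hn1⟩ := key 0
  obtain ⟨m, r, hr, hm1, hm0⟩ := key 1
  have e0 := hn1 1 (by decide)
  have e1 := hm0 0 (by decide)
  rw [nsmul_eq_mul] at hn0 hm1 e0 e1
  have hle : ((2 * q : ℕ) : ℕ∞) * (2 * r : ℕ) ≤ (q : ℕ∞) * r := calc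
    ((2 * q : ℕ) : ℕ∞) * (2 * r : ℕ) ≤ (n * (φ 1 (j π)).order) * (m * (φ 0 (j π)).order) :=
        mul_le_mul' e0 e1
    _ = (n * (φ 0 (j π)).order) * (m * (φ 1 (j π)).order) := by ring
    _ = (q : ℕ∞) * r := by rw [hn0, hm1]
  rw [← Nat.cast_mul, ← Nat.cast_mul, Nat.cast_le] at hle
  have : 0 < q * r := Nat.mul_pos (Nat.pos_of_ne_zero hq) (Nat.pos_of_ne_zero hr)
  nlinarith

section Descend

variable {k : Type u} [Field k] {A : Type u} [CommRing A] [Algebra k A] [IsLocalRing A]
variable (K : Type u) [Field K] [Algebra k K] [Algebra.IsAlgebraic k K]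

/-- The localisation of `A ⊗ K` over the closed point of a local ring with principal maximal ideal has
no pair of branches with transversal coordinates. -/
theorem false_of_branches_tensor_aux (L : Type u) [Field L] [Algebra k L] [Algebra L K] [IsScalarTower k L K]
    [Algebra.IsSeparable k L] [IsPurelyInseparable L K] (π : A) (hπ : maximalIdeal A = Ideal.span {π})
    (P : Ideal (A ⊗[k] K)) [P.IsPrime] (hP : P.comap (algebraMap A (A ⊗[k] K)) = maximalIdeal A)
    [IsNoetherianRing (Localization.AtPrime P)] {K' : Type u} [Field K']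
    (φ : Fin 2 → Localization.AtPrime P →+* PowerSeries K') (b : Fin 2 → Localization.AtPrime P)
    (h1 : ∀ s, (φ s (b s)).order = 1) (h2 : ∀ s t, s ≠ t → 2 ≤ (φ s (b t)).order) : False := by
  classical
  let incl : A ⊗[k] L →ₐ[A] A ⊗[k] K := Algebra.TensorProduct.map (AlgHom.id A A) (IsScalarTower.toAlgHom k L K)
  obtain ⟨p, hp⟩ := ExpChar.exists k
  haveI : Nontrivial (A ⊗[k] K) := nontrivial_of_ne 0 1 fun h =>
    ‹P.IsPrime›.ne_top ((Ideal.eq_top_iff_one P).2 (h ▸ P.zero_mem))
  haveI : ExpChar (A ⊗[k] K) p := expChar_of_injective_ringHom (algebraMap k (A ⊗[k] K)).injective p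
  haveI : ExpChar L p := expChar_of_injective_ringHom (algebraMap k L).injective p
  have hpowK : ∀ x : A ⊗[k] K, ∃ m : ℕ, ∀ n, m ≤ n → x ^ p ^ n ∈ incl.range := by
    intro x
    induction x using TensorProduct.induction_on with
    | zero => exact ⟨0, fun n _ => by rw [zero_pow (pow_ne_zero _ (expChar_pos k p).ne')]; exact zero_mem _⟩
    | tmul a c =>
      obtain ⟨m, l, hl⟩ := IsPurelyInseparable.pow_mem L p c
      refine ⟨m, fun n hn => ⟨(a ^ p ^ n) ⊗ₜ (l ^ p ^ (n - m)), ?_⟩⟩
      show (a ^ p ^ n) ⊗ₜ[k] (algebraMap L K (l ^ p ^ (n - m))) = _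
      rw [Algebra.TensorProduct.tmul_pow, show p ^ n = p ^ m * p ^ (n - m) by rw [← pow_add]; congr 1; omega,
        pow_mul c, ← hl, map_pow]
    | add y z hy hz =>
      obtain ⟨m, hm⟩ := hy
      obtain ⟨m', hm'⟩ := hz
      refine ⟨max m m', fun n hn => ?_⟩
      rw [add_pow_expChar_pow]
      exact add_mem (hm n ((le_max_left _ _).trans hn)) (hm' n ((le_max_right _ _).trans hn))
  let Q : Ideal (A ⊗[k] L) := P.comap incl.toRingHom
  haveI : Q.IsPrime := Ideal.IsPrime.comap _
  have hQ : Q.comap (algebraMap A (A ⊗[k] L)) = maximalIdeal A := by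
    rw [Ideal.comap_comap, ← hP]
    congr 1
    exact incl.comp_algebraMap
  let f0 := algebraMap A (A ⊗[k] L)
  let I : Ideal (A ⊗[k] L) := Ideal.map f0 (maximalIdeal A)
  -- the closed fibre of `A ⊗ L` is reduced
  have hrad : I.IsRadical := by
    haveI : Algebra.IsGeometricallyReduced k L := GrothLib.GeomRed2.isGeometricallyReduced_of_isSeparable
    haveI : IsReduced (ResidueField A ⊗[k] L) := GrothLib.GeomRed2.isReduced_tensor_field (A := L) (ResidueField A)
    let Φ : A ⊗[k] L →ₐ[k] ResidueField A ⊗[k] L :=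
      Algebra.TensorProduct.map (IsScalarTower.toAlgHom k A (ResidueField A)) (AlgHom.id k L)
    have hker : RingHom.ker Φ = I := by
      have h1 : RingHom.ker Φ = _ := Algebra.TensorProduct.rTensor_ker (C := L)
        (IsScalarTower.toAlgHom k A (ResidueField A)) residue_surjective
      have h2 : RingHom.ker (IsScalarTower.toAlgHom k A (ResidueField A)) = maximalIdeal A :=
        (RingHom.ker_coe_toRingHom (IsScalarTower.toAlgHom k A (ResidueField A))).symm.trans ker_residue
      rw [h1, h2]
      rfl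
    rw [← hker]
    exact fun x ⟨n, hn⟩ => (RingHom.mem_ker).2 (eq_zero_of_pow_eq_zero (n := n) (by
      rw [← map_pow]; exact (RingHom.mem_ker).1 hn))
  have hmin : Q ∈ I.minimalPrimes := by
    refine ⟨⟨inferInstance, Ideal.map_le_iff_le_comap.2 hQ.ge⟩, fun Q' ⟨hQ', hIQ'⟩ hle => ?_⟩
    haveI := hQ'
    have hQ'm : Q'.comap (algebraMap A (A ⊗[k] L)) = maximalIdeal A :=
      le_antisymm ((Ideal.comap_mono hle).trans hQ.le) (Ideal.map_le_iff_le_comap.1 hIQ')
    haveI : Q'.IsMaximal := Ideal.isMaximal_of_isIntegral_of_isMaximal_comap _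
      (by rw [hQ'm]; exact maximalIdeal.isMaximal A)
    exact (‹Q'.IsMaximal›.eq_of_le ‹Q.IsPrime›.ne_top hle).ge
  let ι := algebraMap (A ⊗[k] L) (Localization.AtPrime Q)
  let π' : Localization.AtPrime Q := ι (algebraMap A _ π)
  have hπ' : maximalIdeal (Localization.AtPrime Q) = Ideal.span {π'} := by
    rw [← Localization.AtPrime.map_eq_maximalIdeal, ← IsLocalization.AtPrime.radical_map_of_mem_minimalPrimes
      (Localization.AtPrime Q) Q I hmin, ← IsLocalization.map_radical Q.primeCompl, hrad.radical]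
    simp only [I, f0, hπ, Ideal.map_span, Set.image_singleton, π', ι]
  let j : Localization.AtPrime Q →+* Localization.AtPrime P := Localization.localRingHom Q P incl.toRingHom rfl
  haveI : IsLocalHom j := Localization.isLocalHom_localRingHom _ _ _ _
  refine false_of_branches j π' hπ' (fun y => ?_) φ b h1 h2
  obtain ⟨⟨x, s⟩, hx⟩ := IsLocalization.surj P.primeCompl y
  obtain ⟨m, hm⟩ := hpowK x
  obtain ⟨a, ha⟩ := hm m le_rfl
  refine ⟨p ^ m, (IsLocalization.map_units (Localization.AtPrime P) s).unit, ι a,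
    pow_ne_zero _ (expChar_pos k p).ne', ?_⟩
  rw [IsUnit.unit_spec, hx, ← map_pow]
  exact (Localization.localRingHom_to_map _ _ _ _ a).trans (congrArg (algebraMap _ _) ha)

theorem false_of_branches_tensor (π : A) (hπ : maximalIdeal A = Ideal.span {π})
    (P : Ideal (A ⊗[k] K)) [P.IsPrime] (hP : P.comap (algebraMap A (A ⊗[k] K)) = maximalIdeal A)
    [IsNoetherianRing (Localization.AtPrime P)] {K' : Type u} [Field K']
    (φ : Fin 2 → Localization.AtPrime P →+* PowerSeries K') (b : Fin 2 → Localization.AtPrime P)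
    (h1 : ∀ s, (φ s (b s)).order = 1) (h2 : ∀ s t, s ≠ t → 2 ≤ (φ s (b t)).order) : False :=
  haveI : IsPurelyInseparable (separableClosure k K) K := separableClosure.isPurelyInseparable k K
  false_of_branches_tensor_aux K (separableClosure k K) π hπ P hP φ b h1 h2

end Descend

end GrothLib.NormFlat11
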