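import Groth.Agent.Lib.NormFlat11.Local
import Groth.Agent.Lib.CMMor6.Open
import Groth.Agent.Lib.CMMor6.Mor
import Groth.Agent.Lib.GorFlat.Main
import Groth.Agent.Lib.LCI6.InLocus
import Groth.Prelude.Def_Pi1
import Mathlib.AlgebraicGeometry.Geometrically.Reduced

/-!
# Normality of flat families with reduced fibres over normal bases
-/

set_option autoImplicit false
set_option backward.isDefEq.respectTransparency false

universe u

open CategoryTheory AlgebraicGeometry IsLocalRing RingTheory.Sequence

namespace GrothLib.NormFlat11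

theorem pair_of_ringEquiv {R R' : Type u} [CommRing R] [CommRing R'] [IsLocalRing R] [IsLocalRing R']
    [IsNoetherianRing R] [IsNoetherianRing R'] (e : R ≃+* R')
    (h : ∃ x y : R, x ∈ maximalIdeal R ∧ y ∈ maximalIdeal R ∧ IsWeaklyRegular R [x, y]) :
    ∃ x y : R', x ∈ maximalIdeal R' ∧ y ∈ maximalIdeal R' ∧ IsWeaklyRegular R' [x, y] := by
  obtain ⟨x, y, hx, hy, hxy⟩ := h
  have hm : ∀ z ∈ maximalIdeal R, e z ∈ maximalIdeal R' := fun z hz => by
    rw [mem_maximalIdeal, mem_nonunits_iff, MulEquiv.isUnit_map]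
    exact hz
  refine ⟨e x, e y, hm x hx, hm y hy, ?_⟩
  exact (AddEquiv.isWeaklyRegular_congr (e := e.toAddEquiv) (as := [x, y]) (bs := [e x, e y])
    (by simp [List.forall₂_cons])).1 hxy

/-- A flat family with reduced fibres over a normal base, regular over the points whose local ring is a field,
has normal total space. -/
theorem isNormalScheme_of_flat {C S : Scheme.{u}} (f : C ⟶ S) [Flat f] [LocallyOfFiniteType f]
    [IsLocallyNoetherian S] (hS : Pi1.IsNormalScheme S)
    (hred : ∀ x : C, _root_.IsReduced ((f.fiber (f x)).presheaf.stalk (f.asFiber x)))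
    (hgen : ∀ x : C, IsField (S.presheaf.stalk (f x)) → IsRegularLocalRing (C.presheaf.stalk x)) :
    Pi1.IsNormalScheme C := by
  haveI : IsLocallyNoetherian C := LocallyOfFiniteType.isLocallyNoetherian f
  intro z
  obtain ⟨U, hU, hz, -⟩ := GrothLib.LCI6.exists_affine_le (x := z) (O := (⊤ : C.Opens)) trivial
  haveI : IsNoetherianRing Γ(C, U) := IsLocallyNoetherian.component_noetherian ⟨U, hU⟩
  have key : ∀ (p : Ideal Γ(C, U)) [p.IsPrime], IsRegularLocalRing (Localization.AtPrime p) ∨
      ∃ x y : Localization.AtPrime p, x ∈ maximalIdeal _ ∧ y ∈ maximalIdeal _ ∧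
        IsWeaklyRegular (Localization.AtPrime p) [x, y] := by
    intro p _
    let q : PrimeSpectrum Γ(C, U) := ⟨p, inferInstance⟩
    let x := hU.fromSpec q
    have hmem : x ∈ U := hU.range_fromSpec.le ⟨q, rfl⟩
    letI : Algebra Γ(C, U) (C.presheaf.stalk x) := C.presheaf.algebra_section_stalk ⟨x, hmem⟩
    haveI : IsLocalization.AtPrime (C.presheaf.stalk x) p := hU.isLocalization_stalk' q hmem
    let e : C.presheaf.stalk x ≃+* Localization.AtPrime p :=
      (IsLocalization.algEquiv p.primeCompl (C.presheaf.stalk x) (Localization.AtPrime p)).toRingEquiv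
    obtain ⟨hd, hi⟩ := hS (f x)
    have main : IsRegularLocalRing (C.presheaf.stalk x) ∨
        ∃ a b : C.presheaf.stalk x, a ∈ maximalIdeal _ ∧ b ∈ maximalIdeal _ ∧
          IsWeaklyRegular (C.presheaf.stalk x) [a, b] := by
      by_cases hF : IsField (S.presheaf.stalk (f x))
      · exact Or.inl (hgen x hF)
      letI := (f.stalkMap x).hom.toAlgebra
      haveI : Module.Flat (S.presheaf.stalk (f x)) (C.presheaf.stalk x) := Flat.stalkMap f x
      haveI : IsLocalHom (algebraMap (S.presheaf.stalk (f x)) (C.presheaf.stalk x)) :=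
        inferInstanceAs (IsLocalHom (f.stalkMap x).hom)
      refine regular_or_pair (S.presheaf.stalk (f x)) (C.presheaf.stalk x) hF ?_
      obtain ⟨φ⟩ := GrothLib.CMMor6.nonempty_fibQuot_equiv f x
      haveI := hred x
      exact isReduced_of_injective φ.toRingHom φ.injective
    rcases main with h | h
    · haveI := h
      exact Or.inl (IsRegularLocalRing.of_ringEquiv e)
    · exact Or.inr (pair_of_ringEquiv e h)
  have hn := normal_of_regular_or_pair Γ(C, U) key (hU.primeIdealOf ⟨z, hz⟩).asIdeal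
  letI : Algebra Γ(C, U) (C.presheaf.stalk z) := C.presheaf.algebra_section_stalk ⟨z, hz⟩
  haveI : IsLocalization.AtPrime (C.presheaf.stalk z) (hU.primeIdealOf ⟨z, hz⟩).asIdeal :=
    hU.isLocalization_stalk ⟨z, hz⟩
  let e : C.presheaf.stalk z ≃+* Localization.AtPrime (hU.primeIdealOf ⟨z, hz⟩).asIdeal :=
    (IsLocalization.algEquiv (hU.primeIdealOf ⟨z, hz⟩).asIdeal.primeCompl _ _).toRingEquiv
  obtain ⟨hd', hi'⟩ := hn
  exact ⟨e.toMulEquiv.isDomain, IsIntegrallyClosed.of_equiv e.symm⟩

end GrothLib.NormFlat11
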